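import Groth.Agent.Synt29.HyperH0
import Groth.Agent.Lib.CurveLinear
import Groth.Agent.InvX.Tensor
import Mathlib.AlgebraicGeometry.AlgClosed.Basic

/-!
# Linear forms vanishing at closed points
-/

set_option autoImplicit false
set_option backward.isDefEq.respectTransparency false
set_option backward.isDefEq.respectTransparency.types false
set_option linter.style.haveILetI false
set_option linter.unusedSectionVars false
set_option maxHeartbeats 1000000
set_option synthInstance.maxHeartbeats 400000

universe u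

open CategoryTheory CategoryTheory.Limits AlgebraicGeometry TopologicalSpace Opposite

noncomputable section

namespace Groth.Agent.H28.LinePt

open Groth.Agent Groth.Agent.AModX

theorem ofSect_inj {X : Scheme.{u}} {M : X.Modules} (f : Coh.structureModule X ⟶ M) :
    InvX.ofSect (InvX.one f) = f := by
  refine sub_eq_zero.1 (AmpleX.eq_zero_of_one_eq_zero _ ?_)
  show InvX.one (InvX.ofSect (InvX.one f)) - InvX.one f = 0
  rw [InvX.one_ofSect, sub_self]

theorem ofSect_add {X : Scheme.{u}} {M : X.Modules} (a b : Γ(M, ⊤)) :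
    InvX.ofSect (a + b) = InvX.ofSect a + InvX.ofSect b := by
  refine Eq.trans ?_ (ofSect_inj _)
  refine congrArg InvX.ofSect ?_
  show a + b = InvX.one (InvX.ofSect a) + InvX.one (InvX.ofSect b)
  rw [InvX.one_ofSect, InvX.one_ofSect]

theorem ofSect_smul {X : Scheme.{u}} {M : X.Modules} (r : Γ(X, ⊤)) (a : Γ(M, ⊤)) :
    InvX.ofSect (r • a) = InvX.ofSect a ≫ Formal.smulModΓ M r := by
  refine Eq.trans ?_ (ofSect_inj _)
  refine congrArg InvX.ofSect ?_
  show r • a = (Formal.smulModΓ M r).app ⊤ (InvX.one (InvX.ofSect a))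
  rw [InvX.one_ofSect]
  exact congrArg (· • a) (ConcreteCategory.congr_hom (X.presheaf.map_id (op ⊤)) r).symm

variable {n : ℕ} {k : Type u} [Field k]

/-- The linear form with given coefficients. -/
def lin (c : Fin (n + 1) → k) : Γ(Twist.twistProjSpace n k 1, ⊤) :=
  ∑ a, (ProjUP.toGlobal (CohB1.ProjSpace.toSpec n k) (c a) •
    (ProjUP.coord n k a : Γ(Twist.twistProjSpace n k 1, ⊤)) : Γ(Twist.twistProjSpace n k 1, ⊤))

/-- The corresponding section. -/
def sect (c : Fin (n + 1) → k) : Coh.structureModule (CohB1.ProjSpace n k) ⟶ Twist.twistProjSpace n k 1 :=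
  InvX.ofSect (lin c)

theorem lin_add (c d : Fin (n + 1) → k) : lin (c + d) = lin c + lin d := by
  rw [lin, lin, lin, ← Finset.sum_add_distrib]
  refine Finset.sum_congr rfl fun a _ => ?_
  rw [Pi.add_apply, map_add, add_smul]

theorem lin_smul (μ : k) (c : Fin (n + 1) → k) :
    lin (μ • c) = ProjUP.toGlobal (CohB1.ProjSpace.toSpec n k) μ • lin c := by
  rw [lin, lin, Finset.smul_sum]
  refine Finset.sum_congr rfl fun a _ => ?_
  rw [Pi.smul_apply, smul_eq_mul, map_mul, mul_smul]

theorem sect_add (c d : Fin (n + 1) → k) : sect (c + d) = sect c + sect d :=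
  (congrArg InvX.ofSect (lin_add c d)).trans (ofSect_add _ _)

theorem sect_smul (μ : k) (c : Fin (n + 1) → k) :
    sect (μ • c) = sect c ≫ Formal.smulModΓ (Twist.twistProjSpace n k 1)
      (ProjUP.toGlobal (CohB1.ProjSpace.toSpec n k) μ) :=
  (congrArg InvX.ofSect (lin_smul μ c)).trans (ofSect_smul _ _)

theorem sect_ne_zero {c : Fin (n + 1) → k} (hc : c ≠ 0) : sect c ≠ 0 := by
  intro h
  refine hc (Synt29.HyperH0.coord_indep n c ?_)
  show lin c = 0
  rw [← InvX.one_ofSect (lin c)]
  exact congrArg InvX.one h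

/-- The value of a linear form at a closed point. -/
theorem exists_value [IsAlgClosed k] (y : ↥(CohB1.ProjSpace n k))
    (hy : IsClosed ({y} : Set ↥(CohB1.ProjSpace n k))) :
    ∃ φ : (Fin (n + 1) → k) →ₗ[k] k, ∀ c, φ c = 0 →
      y ∈ Set.range (PicF2.zeroScheme (Twist.twistProjSpace n k 1) (sect c)).subschemeι := by
  haveI := PnCoh.Chow.isProper_toSpec n k
  haveI : LocallyOfFiniteType (CohB1.ProjSpace.toSpec n k) := inferInstance
  let p := pointOfClosedPoint (CohB1.ProjSpace.toSpec n k) y hy
  have hp : p ≫ CohB1.ProjSpace.toSpec n k = 𝟙 _ := pointOfClosedPoint_comp _ _ hy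
  let L := Twist.twistProjSpace n k 1
  have hL : PicF.IsInvertible L := HyperplaneLib.isInvertible_O1 n k
  let pt : Spec (CommRingCat.of k) := (default : PrimeSpectrum k)
  obtain ⟨U, hU, e, he⟩ := InvX.exists_frame (PicClLib.isInvertible_pullback p hL) pt
  have hUtop : U = ⊤ := eq_top_iff.2 fun z _ => by
    have : z = pt := Subsingleton.elim (α := PrimeSpectrum k) z pt
    rwa [this]
  subst hUtop
  have hsur : ∀ r : Γ(Spec (CommRingCat.of k), ⊤), ∃ a : k,
      ProjUP.toGlobal (𝟙 (Spec (CommRingCat.of k))) a = r := fun r => by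
    refine ⟨(Scheme.ΓSpecIso (CommRingCat.of k)).hom r, ?_⟩
    exact ConcreteCategory.congr_hom (Scheme.ΓSpecIso (CommRingCat.of k)).hom_inv_id r
  have hcoef : ∀ a : Fin (n + 1), ∃ r : k,
      (ProjUP.pullSec p L (ProjUP.coord n k a) : Γ((Scheme.Modules.pullback p).obj L, ⊤)) =
        ProjUP.toGlobal (𝟙 (Spec (CommRingCat.of k))) r • e := fun a => by
    obtain ⟨r, hr⟩ := he.exists_coord le_rfl
      (show Γ((Scheme.Modules.pullback p).obj L, ⊤) from ProjUP.pullSec p L (ProjUP.coord n k a))
    obtain ⟨r', rfl⟩ := hsur r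
    exact ⟨r', hr.trans (congrArg _ (res_self e))⟩
  choose r hr using hcoef
  refine ⟨Fintype.linearCombination k r, fun c hc => ?_⟩
  have h0 : ProjUP.pullSec p L (PicF2.secVal L (sect c) ⊤) = 0 := by
    rw [show PicF2.secVal L (sect c) ⊤ = lin c from InvX.one_ofSect (lin c)]
    refine (HyperplaneLib.pullSec_lin p L hp c (fun a => ProjUP.coord n k a)).trans ?_
    have : ∑ a, ProjUP.toGlobal (𝟙 (Spec (CommRingCat.of k))) (c a) •
        (ProjUP.toGlobal (𝟙 (Spec (CommRingCat.of k))) (r a) • e) = 0 := by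
      simp only [smul_smul, ← map_mul]
      rw [← Finset.sum_smul, ← map_sum,
        show ∑ a, c a * r a = 0 from by simpa [Fintype.linearCombination_apply] using hc, map_zero, zero_smul]
    refine Eq.trans (Finset.sum_congr rfl fun a _ => congrArg (ProjUP.toGlobal _ (c a) • ·) (hr a)) this
  have hle := HyperplaneLib.zeroScheme_le_ker hL (sect c) p h0
  rw [Scheme.IdealSheafData.range_subschemeι]
  refine Scheme.IdealSheafData.support_antitone hle ?_
  have h1 : p pt ∈ (Scheme.Hom.ker p).support := Scheme.Hom.range_subset_ker_support p ⟨pt, rfl⟩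
  rwa [show p pt = y from pointOfClosedPoint_apply _ _ hy pt] at h1

/-- The pencil of linear forms through a point. -/
theorem exists_pencil (hn : 2 ≤ n) (φ : (Fin (n + 1) → k) →ₗ[k] k) :
    ∃ s t : Fin (n + 1) → k, φ s = 0 ∧ φ t = 0 ∧ ∀ a b : k, a • s + b • t = 0 → a = 0 ∧ b = 0 := by
  have h1 : 2 ≤ Module.finrank k (LinearMap.ker φ) := by
    have := LinearMap.finrank_range_add_finrank_ker φ
    have := Submodule.finrank_le (LinearMap.range φ)
    simp at *
    omega
  obtain ⟨f, hf⟩ := exists_linearIndependent_of_le_finrank h1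
  refine ⟨f 0, f 1, (f 0).2, (f 1).2, fun a b hab => ?_⟩
  have h := Fintype.linearIndependent_iff.1 hf ![a, b] (by
    rw [Fin.sum_univ_two]
    exact Subtype.ext (by simpa using hab))
  exact ⟨h 0, h 1⟩

end Groth.Agent.H28.LinePt
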