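import Groth.Agent.H28.LinePt.Vanish
import Groth.Agent.QCoh.AnnIdeal
import Groth.Agent.QCoh.SupportFT
import Groth.Agent.SchTop.Closed
import Groth.Agent.SeesawX.Basic
import Groth.Agent.Lib.AVHodge
import Groth.Agent.CurveCohLib.Clifford
import Groth.Agent.ConsPropLib.FibreLocFreeRank
import Groth.Agent.H28.QProjEnough
import Groth.Agent.H28.KPn

/-!
# A bundle trivial on the lines through a point is trivial
-/

set_option autoImplicit false
set_option backward.isDefEq.respectTransparency false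
set_option backward.isDefEq.respectTransparency.types false
set_option linter.style.haveILetI false
set_option linter.unusedSectionVars false
set_option maxHeartbeats 200000
set_option synthInstance.maxHeartbeats 400000

universe u

open CategoryTheory CategoryTheory.Limits AlgebraicGeometry TopologicalSpace Opposite
open Groth.Agent.PnCoh.Finite (mapLin deltaLin)
open scoped Groth.Agent.H23.PicMul

noncomputable section

namespace Groth.Agent.H28.LinePt

open Groth.Agent Groth.Agent.H23.PicMul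

variable {k : Type u} [Field k]

/-- Negative twists by one of a trivial bundle have no cohomology. -/
theorem subsingleton_free_minus_one {n : ℕ} (hn : 1 ≤ n) (r : ℕ) (q : ℕ) :
    Subsingleton (Coh.HH (CohB1.ProjSpace n k)
      (CohB1.tensorMod (FlatMod.freeMod (CohB1.ProjSpace n k) r) (Twist.twistProjSpace n k (-1))) q) := by
  haveI := PnCoh.Chow.isProper_toSpec n k
  letI : (CohB1.ProjSpace n k).Over (Spec (CommRingCat.of k)) := ⟨CohB1.ProjSpace.toSpec n k⟩
  obtain ⟨a, b, hab, -⟩ := Synt29.PnEuler.exists_decomp (Twist.twistProjSpace n k (-1))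
    (Iso.refl (FlatMod.freeMod (CohB1.ProjSpace n k) r))
  haveI := Synt29.PnHodge.subsingleton_of_decomp a b hab q
    (S0844.result k n (-1) q (fun h => by omega) (fun h => by omega))
  obtain ⟨e⟩ : Nonempty (CohB1.tensorMod (FlatMod.freeMod (CohB1.ProjSpace n k) r) (Twist.twistProjSpace n k (-1)) ≅
      ((DCoh.tensorBi).obj (Twist.twistProjSpace n k (-1))).obj (FlatMod.freeMod (CohB1.ProjSpace n k) r)) :=
    H23.PicMul.comm _ _
  exact QCoh.subsingleton_HH_of_iso e.symm q inferInstance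

theorem map_H0 {X : Scheme.{u}} [X.Over (Spec (CommRingCat.of k))] {M N : X.Modules} (φ : M ⟶ N)
    (x : Coh.HH X M 0) :
    (Sheaf.H.equiv₀ (Coh.toAb N) isTerminalTop) (mapLin k φ 0 x) =
      φ.app ⊤ ((Sheaf.H.equiv₀ (Coh.toAb M) isTerminalTop) x) :=
  (Sheaf.H.equiv₀_naturality isTerminalTop ((QCoh.toAbFunctor X).map φ) x).symm

/-- Multiplication is bijective when the cokernel is acyclic. -/
theorem bijective_f {X : Scheme.{u}} [X.Over (Spec (CommRingCat.of k))] {A B C : X.Modules} {f : A ⟶ B} {g : B ⟶ C}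
    {w : f ≫ g = 0} (hS : (ShortComplex.mk f g w).ShortExact) (h3 : ∀ p, Subsingleton (Coh.HH X C p)) (q : ℕ) :
    Function.Bijective (mapLin k f q) := by
  constructor
  · rcases q with _ | q
    · exact CurveCohLib.mapLin_f_zero_injective (X := X) (S := ShortComplex.mk f g w) k hS
    · rw [← LinearMap.ker_eq_bot]
      refine (CurveCohLib.ker_mapLin_f_succ (A := k) hS q).trans ?_
      rw [LinearMap.range_eq_bot]
      refine LinearMap.ext fun x => ?_
      obtain rfl : x = 0 := @Subsingleton.elim _ (h3 q) _ _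
      exact (map_zero _).trans (LinearMap.zero_apply _).symm
  · intro y
    have hy : y ∈ LinearMap.ker (mapLin k g q) := LinearMap.mem_ker.2 (@Subsingleton.elim _ (h3 q) _ _)
    exact LinearMap.mem_range.1 ((CurveCohLib.ker_mapLin_g (A := k) hS q).le hy)

/-- Restriction of sections is bijective when the kernel is acyclic in degrees zero and one. -/
theorem bijective_g {X : Scheme.{u}} [X.Over (Spec (CommRingCat.of k))] {A B C : X.Modules} {f : A ⟶ B} {g : B ⟶ C}
    {w : f ≫ g = 0} (hS : (ShortComplex.mk f g w).ShortExact) (h0 : Subsingleton (Coh.HH X A 0))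
    (h1 : Subsingleton (Coh.HH X A 1)) : Function.Bijective (mapLin k g 0) := by
  constructor
  · rw [← LinearMap.ker_eq_bot]
    refine (CurveCohLib.ker_mapLin_g (A := k) hS 0).trans ?_
    rw [LinearMap.range_eq_bot]
    refine LinearMap.ext fun x => ?_
    obtain rfl : x = 0 := @Subsingleton.elim _ h0 _ _
    exact (map_zero _).trans (LinearMap.zero_apply _).symm
  · intro y
    have hy : y ∈ LinearMap.ker (deltaLin k hS 0) := LinearMap.mem_ker.2 (@Subsingleton.elim _ h1 _ _)
    exact LinearMap.mem_range.1 ((CurveCohLib.ker_deltaLin (A := k) hS 0).le hy)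

variable [IsAlgClosed k] {n r : ℕ}

section Pencil

variable [(CohB1.ProjSpace (n + 1) k).Over (Spec (CommRingCat.of k))]
  [IsProper (CohB1.ProjSpace (n + 1) k ↘ Spec (CommRingCat.of k))]

/-- A hyperplane of the pencil, with a trivialization of the restriction. -/
def GoodForm (E : (CohB1.ProjSpace (n + 1) k).Modules) (r : ℕ) (c : Fin (n + 1 + 1) → k) : Prop :=
  ∃ j : CohB1.ProjSpace n k ⟶ CohB1.ProjSpace (n + 1) k,
    IsClosedImmersion j ∧ j ≫ CohB1.ProjSpace.toSpec (n + 1) k = CohB1.ProjSpace.toSpec n k ∧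
    j.ker = PicF2.zeroScheme (Twist.twistProjSpace (n + 1) k 1) (sect c) ∧
    Nonempty ((Scheme.Modules.pullback j).obj (Twist.twistProjSpace (n + 1) k 1) ≅ Twist.twistProjSpace n k 1) ∧
    Nonempty ((Scheme.Modules.pullback j).obj E ≅ FlatMod.freeMod (CohB1.ProjSpace n k) r)

theorem bijective_mulForm (hn : 1 ≤ n) {M E : (CohB1.ProjSpace (n + 1) k).Modules} (hM : FlatMod.IsFinLocFree M)
    (e : (DCoh.tensorBi.obj M).obj (Twist.twistProjSpace (n + 1) k 1) ≅
      CohB1.tensorMod E (Twist.twistProjSpace (n + 1) k (-1)))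
    {c : Fin (n + 1 + 1) → k} (hc : c ≠ 0) (hgood : GoodForm E r c) (q : ℕ) :
    Function.Bijective (mulForm M q c) := by
  obtain ⟨j, hj, hjk, hker, ⟨τ⟩, ⟨eE⟩⟩ := hgood
  haveI := hj
  haveI : IsIntegral (CohB1.ProjSpace (n + 1) k) := H23.PnChart.isIntegral_projSpace (n + 1) k
  haveI : IsLocallyNoetherian (CohB1.ProjSpace (n + 1) k) := PnCoh.Finite.isLocallyNoetherian_projSpace (n + 1) k
  obtain ⟨w, hS⟩ := shortExact_restrict (HyperplaneLib.isInvertible_O1 _ _) (sect_ne_zero hc) hM j hker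
  have hN : FlatMod.IsFinLocFree ((DCoh.tensorBi.obj M).obj (Twist.twistProjSpace (n + 1) k 1)) :=
    Synt29.PnEuler.isFinLocFree_tensorMod hM (H28.KvbModel.lf_of_rank (Synt29.Rank2Pn.rank_O _))
  have h3 : ∀ p, Subsingleton (Coh.HH (CohB1.ProjSpace (n + 1) k) ((Coh.push j).obj
      ((Scheme.Modules.pullback j).obj ((DCoh.tensorBi.obj M).obj (Twist.twistProjSpace (n + 1) k 1)))) p) := fun p => by
    obtain ⟨eH⟩ := Synt29.HyperH0.pullback_twist_free j ⟨τ⟩ eE (-1)
    exact Synt29.PlaneSplit.subsingleton_push j (QCoh.isQCoh_pullback j (QCoh.isQCoh_of_isFinLocFree hN)) p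
      (QCoh.subsingleton_HH_of_iso ((Scheme.Modules.pullback j).mapIso e ≪≫ eH).symm p
        (subsingleton_free_minus_one hn r p))
  exact bijective_f hS h3 q

theorem bijective_restrict {M E : (CohB1.ProjSpace (n + 1) k).Modules} (hM : FlatMod.IsFinLocFree M)
    (h0 : Subsingleton (Coh.HH (CohB1.ProjSpace (n + 1) k) M 0))
    (h1 : Subsingleton (Coh.HH (CohB1.ProjSpace (n + 1) k) M 1))
    (e : (DCoh.tensorBi.obj M).obj (Twist.twistProjSpace (n + 1) k 1) ≅ E)
    {c : Fin (n + 1 + 1) → k} (hc : c ≠ 0) (hgood : GoodForm E r c) :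
    ∃ j : CohB1.ProjSpace n k ⟶ CohB1.ProjSpace (n + 1) k,
      IsClosedImmersion j ∧ j ≫ CohB1.ProjSpace.toSpec (n + 1) k = CohB1.ProjSpace.toSpec n k ∧
      j.ker = PicF2.zeroScheme (Twist.twistProjSpace (n + 1) k 1) (sect c) ∧
      Nonempty ((Scheme.Modules.pullback j).obj ((DCoh.tensorBi.obj M).obj (Twist.twistProjSpace (n + 1) k 1)) ≅
        FlatMod.freeMod (CohB1.ProjSpace n k) r) ∧
      Function.Bijective (mapLin k ((Scheme.Modules.pullbackPushforwardAdjunction j).unit.app
        ((DCoh.tensorBi.obj M).obj (Twist.twistProjSpace (n + 1) k 1))) 0) := by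
  obtain ⟨j, hj, hjk, hker, -, ⟨eE⟩⟩ := hgood
  haveI := hj
  haveI : IsIntegral (CohB1.ProjSpace (n + 1) k) := H23.PnChart.isIntegral_projSpace (n + 1) k
  haveI : IsLocallyNoetherian (CohB1.ProjSpace (n + 1) k) := PnCoh.Finite.isLocallyNoetherian_projSpace (n + 1) k
  obtain ⟨w, hS⟩ := shortExact_restrict (HyperplaneLib.isInvertible_O1 _ _) (sect_ne_zero hc) hM j hker
  have h10 := QCoh.subsingleton_HH_of_iso (KFlatLib.tensorUnitIso M).symm 0 h0
  have h11 := QCoh.subsingleton_HH_of_iso (KFlatLib.tensorUnitIso M).symm 1 h1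
  exact ⟨j, hj, hjk, hker, ⟨(Scheme.Modules.pullback j).mapIso e ≪≫ eE⟩, bijective_g hS h10 h11⟩

/-- A map inducing on `j^*` a bijection on sections towards a globally generated target. -/
theorem notMem_support {X Y : Scheme.{u}} [IsLocallyNoetherian X] [X.Over (Spec (CommRingCat.of k))] (j : Y ⟶ X) [IsClosedImmersion j]
    {N : X.Modules} (hN : FlatMod.IsFinLocFree N) (bs : Module.Basis (Fin r) k (Coh.HH X N 0))
    (eN : (Scheme.Modules.pullback j).obj N ≅ FlatMod.freeMod Y r)
    (hbij : Function.Surjective (mapLin k ((Scheme.Modules.pullbackPushforwardAdjunction j).unit.app N) 0))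
    (z : Y) :
    j z ∉ CohB1.support (cokernel (Sigma.desc fun i =>
      InvX.ofSect (show Γ(N, ⊤) from (Sheaf.H.equiv₀ (Coh.toAb N) isTerminalTop) (bs i)))) := by
  let ψ : FlatMod.freeMod X r ⟶ N := Sigma.desc fun i =>
    InvX.ofSect (show Γ(N, ⊤) from (Sheaf.H.equiv₀ (Coh.toAb N) isTerminalTop) (bs i))
  show j z ∉ CohB1.support (cokernel ψ)
  let η := (Scheme.Modules.pullbackPushforwardAdjunction j).unit
  haveI : Epi ((Scheme.Modules.pullback j).map ψ) := by
    refine Preadditive.epi_of_cancel_zero _ fun {R} g hg => ?_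
    let G := (Coh.push j).map g
    have h1 : ψ ≫ η.app N ≫ G = 0 := by
      have h2 : ψ ≫ η.app N = η.app (FlatMod.freeMod X r) ≫ (Coh.push j).map ((Scheme.Modules.pullback j).map ψ) :=
        η.naturality ψ
      rw [reassoc_of% h2, ← Functor.map_comp, hg, Functor.map_zero, comp_zero]
    have h3 : ∀ i, mapLin k (η.app N ≫ G) 0 (bs i) = 0 := fun i => by
      refine (Sheaf.H.equiv₀ (Coh.toAb ((Coh.push j).obj R)) isTerminalTop).injective ?_
      rw [map_H0, map_zero]
      have h4 := congrArg (fun f => InvX.one (Sigma.ι (fun _ : Fin r => Coh.structureModule X) i ≫ f)) h1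
      simp only [ψ, Sigma.ι_desc_assoc, comp_zero] at h4
      refine Eq.trans ?_ h4
      exact congrArg ((η.app N ≫ G).app ⊤)
        (InvX.one_ofSect (show Γ(N, ⊤) from (Sheaf.H.equiv₀ (Coh.toAb N) isTerminalTop) (bs i))).symm
    have h5 : mapLin k (η.app N ≫ G) 0 = 0 := bs.ext fun i => (h3 i).trans (LinearMap.zero_apply _).symm
    have h6 : ∀ v, g.app ⊤ v = 0 := fun v => by
      obtain ⟨x, hx⟩ := hbij ((Sheaf.H.equiv₀ (Coh.toAb ((Coh.push j).obj ((Scheme.Modules.pullback j).obj N)))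
        isTerminalTop).symm v)
      have h7 := congrArg (Sheaf.H.equiv₀ (Coh.toAb ((Coh.push j).obj R)) isTerminalTop) (LinearMap.congr_fun h5 x)
      rw [← FFun.mapLin_comp, map_H0, LinearMap.zero_apply, map_zero] at h7
      exact (congrArg (fun w => G.app ⊤ w)
        ((congrArg _ hx).trans (AddEquiv.apply_symm_apply _ _)).symm).trans h7
    rw [← cancel_epi eN.inv, comp_zero]
    refine Sigma.hom_ext _ _ fun i => ?_
    rw [comp_zero]
    refine AmpleX.eq_zero_of_one_eq_zero _ ?_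
    exact h6 _
  have hC : IsZero ((Scheme.Modules.pullback j).obj (cokernel ψ)) := by
    haveI : (Scheme.Modules.pullback j).IsLeftAdjoint :=
      (Scheme.Modules.pullbackPushforwardAdjunction j).isLeftAdjoint
    refine IsZero.of_epi_eq_zero ((Scheme.Modules.pullback j).map (cokernel.π ψ)) ?_
    rw [← cancel_epi ((Scheme.Modules.pullback j).map ψ), ← Functor.map_comp, cokernel.condition,
      Functor.map_zero, comp_zero]
  have hCc : Coh.IsCoh (cokernel ψ) := QCoh.isCoh_cokernel
    (QCoh.isQCoh_of_isFinLocFree (H28.KvbModel.lf_of_rank (H28.QProjEnough.rank_freeMod X r)))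
    (QCoh.isCoh_iff_isFP.2 (QCoh.isFP_of_isFinLocFree hN)) ψ
  intro hsupp
  have h8 : z ∈ CohB1.support ((Scheme.Modules.pullback j).obj (cokernel ψ)) := by
    rw [QCoh.support_pullback j hCc.1 hCc.2]
    exact hsupp
  exact h8 (ModuleCat.subsingleton_of_isZero (Functor.map_isZero (DerSch.stalkFunctor Y z) hC))

theorem finrank_free {m : ℕ} [(CohB1.ProjSpace m k).Over (Spec (CommRingCat.of k))]
    [IsProper (CohB1.ProjSpace m k ↘ Spec (CommRingCat.of k))] (r : ℕ) :
    Module.finrank k (Coh.HH (CohB1.ProjSpace m k) (FlatMod.freeMod (CohB1.ProjSpace m k) r) 0) = r := by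
  haveI : IsIntegral (CohB1.ProjSpace m k) := H23.PnChart.isIntegral_projSpace m k
  rw [AVHodge.finrank_HH_freeMod, CurveCohLib.Clifford.finrank_h0_structure, mul_one]

end Pencil

variable {E : (CohB1.ProjSpace (n + 1) k).Modules}

/-- A bundle trivial on the hyperplanes of a pencil is trivial. -/
theorem trivial_of_pencil (hn : 1 ≤ n) (hE : FlatMod.IsFinLocFreeOfRank r E)
    (s t : Fin (n + 1 + 1) → k) (hst : ∀ a b : k, a • s + b • t = 0 → a = 0 ∧ b = 0)
    (hdata : ∀ a b : k, a • s + b • t ≠ 0 → GoodForm E r (a • s + b • t))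
    (hcov : ∀ y : ↥(CohB1.ProjSpace (n + 1) k), IsClosed ({y} : Set ↥(CohB1.ProjSpace (n + 1) k)) →
      ∃ a b : k, a • s + b • t ≠ 0 ∧
        y ∈ ((PicF2.zeroScheme (Twist.twistProjSpace (n + 1) k 1) (sect (a • s + b • t))).support :
          Set ↥(CohB1.ProjSpace (n + 1) k))) :
    Nonempty (E ≅ FlatMod.freeMod (CohB1.ProjSpace (n + 1) k) r) := by
  letI : (CohB1.ProjSpace (n + 1) k).Over (Spec (CommRingCat.of k)) := ⟨CohB1.ProjSpace.toSpec (n + 1) k⟩
  haveI : IsProper (CohB1.ProjSpace (n + 1) k ↘ Spec (CommRingCat.of k)) := PnCoh.Chow.isProper_toSpec (n + 1) k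
  haveI : IsLocallyNoetherian (CohB1.ProjSpace (n + 1) k) := PnCoh.Finite.isLocallyNoetherian_projSpace (n + 1) k
  let P := CohB1.ProjSpace (n + 1) k
  let L := Twist.twistProjSpace (n + 1) k 1
  have hlf : ∀ d : ℤ, FlatMod.IsFinLocFree (CohB1.tensorMod E (Twist.twistProjSpace (n + 1) k d)) := fun d =>
    Synt29.PnEuler.isFinLocFree_tensorMod (H28.KvbModel.lf_of_rank hE)
      (H28.KvbModel.lf_of_rank (Synt29.Rank2Pn.rank_O d))
  let M2 := CohB1.tensorMod E (Twist.twistProjSpace (n + 1) k (-2))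
  let M1 := CohB1.tensorMod E (Twist.twistProjSpace (n + 1) k (-1))
  have hM2 : FlatMod.IsFinLocFree M2 := hlf _
  obtain ⟨e21⟩ := cl_eq_iff.1 (show PicF.cl ((DCoh.tensorBi.obj M2).obj L) = PicF.cl M1 by
    rw [Synt29.PnEuler.cl_tens, cl_tensor, cl_tensor, mul_assoc, Synt29.PnEuler.tw_add]; rfl)
  obtain ⟨e10⟩ := cl_eq_iff.1 (show PicF.cl ((DCoh.tensorBi.obj M1).obj L) = PicF.cl E by
    rw [Synt29.PnEuler.cl_tens, cl_tensor, mul_assoc, Synt29.PnEuler.tw_add, neg_add_cancel,
      Synt29.PnEuler.tw_zero, mul_one])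
  have hcoh : ∀ {M : P.Modules}, FlatMod.IsFinLocFree M → Coh.IsCoh M := fun h =>
    QCoh.isCoh_iff_isFP.2 (QCoh.isFP_of_isFinLocFree h)
  have hvan : ∀ q ≤ 1, Subsingleton (Coh.HH P M1 q) := by
    intro q hq
    haveI : FiniteDimensional k (Coh.HH P ((DCoh.tensorBi.obj M2).obj (Coh.structureModule P)) q) := by
      haveI := CurveCohLib.finite_HH (k := k) (hcoh hM2) q
      exact Module.Finite.equiv (CurveCohLib.hhEquiv (k := k) (KFlatLib.tensorUnitIso M2).symm q)
    exact QCoh.subsingleton_HH_of_iso e21 q (subsingleton_mul (n := n + 1) rfl (M := M2) q s t hst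
      fun a b hab => bijective_mulForm hn hM2 e21 hab (hdata a b hab) q)
  let N := (DCoh.tensorBi.obj M1).obj L
  have hNr : FlatMod.IsFinLocFreeOfRank r N := (ConsPropLib.isFinLocFreeOfRank_iso e10.symm).1 hE
  have hNlf : FlatMod.IsFinLocFree N := H28.KvbModel.lf_of_rank hNr
  haveI := CurveCohLib.finite_HH (k := k) (hcoh hNlf) 0
  have hres := fun a b hab => bijective_restrict (hlf (-1)) (hvan 0 zero_le_one) (hvan 1 le_rfl) e10
    (c := a • s + b • t) hab (hdata a b hab)
  have hdr : Module.finrank k (Coh.HH P N 0) = r := by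
    obtain ⟨j, hj, hjk, -, ⟨eN⟩, hbij⟩ := hres 1 0 fun h => one_ne_zero (hst 1 0 h).1
    haveI := hj
    letI : (CohB1.ProjSpace n k).Over (Spec (CommRingCat.of k)) := ⟨CohB1.ProjSpace.toSpec n k⟩
    haveI : IsProper (CohB1.ProjSpace n k ↘ Spec (CommRingCat.of k)) := PnCoh.Chow.isProper_toSpec n k
    obtain ⟨el⟩ := PnCoh.exists_linearEquiv_push k j hjk
      (QCoh.isQCoh_pullback j (QCoh.isQCoh_of_isFinLocFree hNlf)) 0
    refine ((LinearEquiv.ofBijective _ hbij).finrank_eq).trans (el.symm.finrank_eq.trans ?_)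
    rw [(CurveCohLib.hhEquiv (k := k) eN 0).finrank_eq]
    exact finrank_free r
  let bs := Module.finBasisOfFinrankEq k (Coh.HH P N 0) hdr
  let ψ : FlatMod.freeMod P r ⟶ N := Sigma.desc fun i =>
    InvX.ofSect (show Γ(N, ⊤) from (Sheaf.H.equiv₀ (Coh.toAb N) isTerminalTop) (bs i))
  have hC0 : IsZero (cokernel ψ) := CurveCohLib.isZero_of_subsingleton_stalks fun x => by
    have hCc : Coh.IsCoh (cokernel ψ) := QCoh.isCoh_cokernel
      (QCoh.isQCoh_of_isFinLocFree (H28.KvbModel.lf_of_rank (H28.QProjEnough.rank_freeMod P r))) (hcoh hNlf) ψ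
    refine not_not.1 fun hx => ?_
    obtain ⟨y, hxy, hy⟩ := SchTop.exists_isClosed_specializes x
    obtain ⟨a, b, hab, hmem⟩ := hcov y hy
    obtain ⟨j, hj, -, hker, ⟨eN⟩, hbij⟩ := hres a b hab
    haveI := hj
    obtain ⟨z, rfl⟩ : y ∈ Set.range j.base := by
      rw [← j.isClosedEmbedding.isClosed_range.closure_eq, ← Scheme.Hom.support_ker j, hker]
      exact hmem
    exact notMem_support j hNlf bs eN hbij.2 z (hxy.mem_closed (QCoh.isClosed_support_of_ft hCc.2) hx)
  haveI : Epi ψ := Preadditive.epi_of_isZero_cokernel _ hC0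
  haveI := SeesawX.isIso_of_epi_rank (H28.QProjEnough.rank_freeMod P r) hNr ψ
  exact ⟨e10.symm ≪≫ (asIso ψ).symm⟩

end Groth.Agent.H28.LinePt
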