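import Groth.Agent.Synt29.PlaneSplit

/-!
# The restriction sequence of a divisor, with its maps
-/

set_option autoImplicit false
set_option backward.isDefEq.respectTransparency false
set_option backward.isDefEq.respectTransparency.types false
set_option linter.style.haveILetI false
set_option linter.unusedSectionVars false
set_option maxHeartbeats 1000000
set_option synthInstance.maxHeartbeats 400000

universe u

open CategoryTheory CategoryTheory.Limits AlgebraicGeometry TopologicalSpace Opposite
open scoped Groth.Agent.H23.PicMul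

noncomputable section

namespace Groth.Agent.H28.LinePt

open Groth.Agent Groth.Agent.H23.PicMul Groth.Agent.AModX Groth.Agent.Synt29

/-- The restriction sequence of a divisor, tensored with a bundle. -/
theorem shortExact_restrict {X : Scheme.{u}} [IsIntegral X] [IsLocallyNoetherian X] {L : X.Modules} (hL : PicF.IsInvertible L)
    {s : Coh.structureModule X ⟶ L} (hs : s ≠ 0) {M : X.Modules} (hMlf : FlatMod.IsFinLocFree M)
    {Z : Scheme.{u}} (j : Z ⟶ X) [IsClosedImmersion j] (hker : j.ker = PicF2.zeroScheme L s) :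
    ∃ w : (DCoh.tensorBi.obj M).map s ≫ (Scheme.Modules.pullbackPushforwardAdjunction j).unit.app
        ((DCoh.tensorBi.obj M).obj L) = 0,
      (ShortComplex.mk _ _ w).ShortExact := by
  let N := (DCoh.tensorBi.obj M).obj L
  let O1 := (DCoh.tensorBi.obj M).obj (Coh.structureModule X)
  let α : O1 ⟶ N := (DCoh.tensorBi.obj M).map s
  let η := (Scheme.Modules.pullbackPushforwardAdjunction j).unit.app N
  have hM : Coh.IsQCoh M := QCoh.isQCoh_of_isFinLocFree hMlf
  have hLq : Coh.IsQCoh L := ZeroSchX.isQCoh_inv hL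
  have hLlf : FlatMod.IsFinLocFree L := H28.KvbModel.lf_of_rank (H28.PBCores.isInvertible_iff_rank.1 hL)
  have hN : Coh.IsQCoh N := QCoh.isQCoh_of_isFinLocFree (PnEuler.isFinLocFree_tensorMod hMlf hLlf)
  have hOq : Coh.IsQCoh (Coh.structureModule X) := QCoh.isCoh_structureModule'.1
  haveI : Mono α := by
    haveI : Mono s := UnitMono.mono_of_ne_zero hLlf s hs
    have hι : (ShortComplex.mk s (cokernel.π s) (cokernel.condition s)).ShortExact :=
      { exact := ShortComplex.exact_cokernel s }
    exact (CurveTensor.shortExact_tensor hMlf _ _ _ hι).mono_f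
  have loc : ∀ x : X, ∃ (W : X.Opens) (_ : IsAffineOpen W) (e : Γ(L, W)) (c : Γ(X, W)), x ∈ W ∧
      InvX.IsFrame e ∧ ZeroSchX.sv s W = c • e ∧ ∀ (V : X.Opens) (_ : IsAffineOpen V) (h : V ≤ W),
        j.ker.ideal ⟨V, by assumption⟩ = Ideal.span {resR h c} := by
    intro x
    obtain ⟨U, hU, e, he⟩ := InvX.exists_frame hL x
    obtain ⟨_, ⟨W, hW, rfl⟩, hxW, hWU⟩ := X.isBasis_affineOpens.exists_subset_of_mem_open hU U.2
    obtain ⟨c, hc⟩ := ((he.res hWU) W le_rfl).2 (ZeroSchX.sv s W)
    have hc' : ZeroSchX.sv s W = c • res L hWU e :=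
      hc.symm.trans (congrArg (c • ·) (res_self _))
    refine ⟨W, hW, res L hWU e, c, hxW, he.res hWU, hc', fun V hV h => ?_⟩
    have hcV : ZeroSchX.sv s V = resR h c • res L h (res L hWU e) := by
      rw [← res_smul, ← hc']
      exact (ZeroSchX.res_sv s h).symm
    rw [hker, ZeroSchX.ideal_zeroScheme hL, ZeroSchX.zeroIdealOn_eq_span s ((he.res hWU).res h) hcV]
  have hval : ∀ (V : X.Opens) (e : Γ(L, V)) (c : Γ(X, V)), ZeroSchX.sv s V = c • e → ∀ m : Γ(M, V),
      α.app V (QCoh.tmS M (Coh.structureModule X) m (show Γ(X, V) from 1)) = c • QCoh.tmS M L m e := by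
    intro V e c hc m
    refine (KFlatLib.tmSh_naturality_right M s (U := V) m _).trans ?_
    refine Eq.trans ?_ (QCoh.tmS_smul_right M L c m e)
    exact congrArg (QCoh.tmS M L m) hc
  have w : α ≫ η = 0 := by
    refine QCoh.hom_eq_zero_of_affine _ fun U hU z => ?_
    refine AModX.eq_of_locally (M := (Scheme.Modules.pushforward j).obj ((Scheme.Modules.pullback j).obj N)) _ _
      fun x hx => ?_
    obtain ⟨W, hW, e, c, hxW, he, hc, hid⟩ := loc x
    obtain ⟨_, ⟨V, hV, rfl⟩, hxV, hVW⟩ :=
      X.isBasis_affineOpens.exists_subset_of_mem_open (show x ∈ U ⊓ W from ⟨hx, hxW⟩) (U ⊓ W).2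
    have hVU : V ≤ U := fun y hy => (hVW hy).1
    have hVW' : V ≤ W := fun y hy => (hVW hy).2
    refine ⟨V, hVU, hxV, ?_⟩
    rw [map_zero]
    obtain ⟨m, hm⟩ := (Euler.bijective_tmS_frame hM hOq hV
      (show InvX.IsFrame (M := Coh.structureModule X) (show Γ(X, V) from 1) from InvX.isFrame_one V)).2 (res O1 hVU z)
    have hcV : ZeroSchX.sv s V = resR hVW' c • res L hVW' e := by
      rw [← res_smul, ← hc]
      exact (ZeroSchX.res_sv s hVW').symm
    refine (app_res (α ≫ η) hVU z).symm.trans ?_
    show η.app V (α.app V (res O1 hVU z)) = 0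
    rw [← show QCoh.tmS M (Coh.structureModule X) m (show Γ(X, V) from 1) = res O1 hVU z from hm,
      hval V _ _ hcV m]
    refine ((QCoh.unit_app_closed j hN hV).2 _).2 ?_
    rw [hid V hV hVW']
    exact Submodule.smul_mem_smul (Ideal.mem_span_singleton_self _) trivial
  let S := ShortComplex.mk α η w
  haveI : Epi S.g := Nakai.epi_unit j hN
  haveI : Mono S.f := inferInstanceAs (Mono α)
  have hex : S.Exact := by
    rw [S.exact_iff_kernel_ι_comp_cokernel_π_zero]
    refine QCoh.hom_eq_zero_of_affine _ fun U hU z => ?_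
    refine AModX.eq_of_locally (M := cokernel α) _ _ fun x hx => ?_
    obtain ⟨W, hW, e, c, hxW, he, hc, hid⟩ := loc x
    obtain ⟨_, ⟨V, hV, rfl⟩, hxV, hVW⟩ :=
      X.isBasis_affineOpens.exists_subset_of_mem_open (show x ∈ U ⊓ W from ⟨hx, hxW⟩) (U ⊓ W).2
    have hVU : V ≤ U := fun y hy => (hVW hy).1
    have hVW' : V ≤ W := fun y hy => (hVW hy).2
    refine ⟨V, hVU, hxV, ?_⟩
    rw [map_zero]
    refine (app_res (kernel.ι η ≫ cokernel.π α) hVU z).symm.trans ?_
    show (cokernel.π α).app V ((kernel.ι η).app V (res _ hVU z)) = 0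
    set t := (kernel.ι η).app V (res _ hVU z) with ht
    have h0 : η.app V t = 0 := congr($(kernel.condition η).app V (res _ hVU z))
    have h2 := ((QCoh.unit_app_closed j hN hV).2 t).1 h0
    rw [hid V hV hVW', Submodule.ideal_span_singleton_smul, Submodule.mem_smul_pointwise_iff_exists] at h2
    obtain ⟨y, -, hy⟩ := h2
    obtain ⟨m, hm⟩ := (Euler.bijective_tmS_frame hM hLq hV (he.res hVW')).2 y
    have hcV : ZeroSchX.sv s V = resR hVW' c • res L hVW' e := by
      rw [← res_smul, ← hc]
      exact (ZeroSchX.res_sv s hVW').symm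
    rw [← hy, ← show QCoh.tmS M L m (res L hVW' e) = y from hm, ← hval V _ _ hcV m]
    exact congr($(cokernel.condition α).app V (QCoh.tmS M (Coh.structureModule X) m (show Γ(X, V) from 1)))
  exact ⟨w, { exact := hex }⟩

end Groth.Agent.H28.LinePt
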