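import Groth.Agent.H28.LinePt.Seq
import Groth.Agent.H28.LinePt.Forms
import Groth.Agent.FFun.Basic
import Groth.Agent.Lib.CurveDualPrep
import Mathlib.LinearAlgebra.Eigenspace.Triangularizable

/-!
# A pencil of bijective multiplications by linear forms forces vanishing
-/

set_option autoImplicit false
set_option backward.isDefEq.respectTransparency false
set_option backward.isDefEq.respectTransparency.types false
set_option linter.style.haveILetI false
set_option linter.unusedSectionVars false
set_option maxHeartbeats 1000000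
set_option synthInstance.maxHeartbeats 400000

universe u

open CategoryTheory CategoryTheory.Limits AlgebraicGeometry TopologicalSpace Opposite
open Groth.Agent.PnCoh.Finite (mapLin)

noncomputable section

namespace Groth.Agent.H28.LinePt

open Groth.Agent

/-- Two maps of which every nonzero combination is injective, one being bijective: the source vanishes. -/
theorem subsingleton_of_pencil {k V W : Type*} [Field k] [IsAlgClosed k] [AddCommGroup V] [Module k V]
    [AddCommGroup W] [Module k W] [FiniteDimensional k V] (f g : V →ₗ[k] W) (hf : Function.Bijective f)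
    (h : ∀ μ : k, Function.Injective (g - μ • f)) : Subsingleton V := by
  by_contra hV
  rw [not_subsingleton_iff_nontrivial] at hV
  let e := LinearEquiv.ofBijective f hf
  obtain ⟨μ, hμ⟩ := Module.End.exists_eigenvalue (e.symm.toLinearMap ∘ₗ g : Module.End k V)
  obtain ⟨v, hv⟩ := hμ.exists_hasEigenvector
  have h1 : e.symm (g v) = μ • v := hv.apply_eq_smul
  have h2 : g v = μ • f v := by
    have := congrArg e h1
    rwa [e.apply_symm_apply, map_smul] at this
  refine hv.2 (h μ ?_)
  rw [map_zero, LinearMap.sub_apply, LinearMap.smul_apply, h2, sub_self]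

variable {n : ℕ} {k : Type u} [Field k] [(CohB1.ProjSpace n k).Over (Spec (CommRingCat.of k))]

/-- Multiplication by a linear form. -/
def mulForm (M : (CohB1.ProjSpace n k).Modules) (q : ℕ) (c : Fin (n + 1) → k) :
    Coh.HH (CohB1.ProjSpace n k) ((DCoh.tensorBi.obj M).obj (Coh.structureModule (CohB1.ProjSpace n k))) q →ₗ[k]
      Coh.HH (CohB1.ProjSpace n k) ((DCoh.tensorBi.obj M).obj (Twist.twistProjSpace n k 1)) q :=
  mapLin k ((DCoh.tensorBi.obj M).map (sect c)) q

theorem mulForm_add (M : (CohB1.ProjSpace n k).Modules) (q : ℕ) (c d : Fin (n + 1) → k) :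
    mulForm M q (c + d) = mulForm M q c + mulForm M q d := by
  ext x
  rw [LinearMap.add_apply, mulForm, mulForm, mulForm, ← CurveDuality.mapLin_add]
  refine FFun.mapLin_congr ?_ q x
  rw [sect_add]
  exact Functor.map_add _

theorem mulForm_smul (hq : (CohB1.ProjSpace n k ↘ Spec (CommRingCat.of k)) = CohB1.ProjSpace.toSpec n k)
    (M : (CohB1.ProjSpace n k).Modules) (q : ℕ) (μ : k) (c : Fin (n + 1) → k) :
    mulForm M q (μ • c) = μ • mulForm M q c := by
  ext x
  rw [LinearMap.smul_apply, mulForm, mulForm, ← FFun.mapLin_smulMod, FFun.mapLin_comp]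
  refine FFun.mapLin_congr ?_ q x
  rw [sect_smul, Functor.map_comp, CurveLinear.tensor_map_smul]
  show _ = _ ≫ Formal.smulModΓ _ (Coh.toGlobal _ μ)
  rw [hq]
  rfl

/-- The pencil argument on cohomology. -/
theorem subsingleton_mul [IsAlgClosed k]
    (hq : (CohB1.ProjSpace n k ↘ Spec (CommRingCat.of k)) = CohB1.ProjSpace.toSpec n k)
    {M : (CohB1.ProjSpace n k).Modules} (q : ℕ)
    [FiniteDimensional k (Coh.HH (CohB1.ProjSpace n k)
      ((DCoh.tensorBi.obj M).obj (Coh.structureModule (CohB1.ProjSpace n k))) q)]
    (s t : Fin (n + 1) → k) (hst : ∀ a b : k, a • s + b • t = 0 → a = 0 ∧ b = 0)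
    (h : ∀ a b : k, a • s + b • t ≠ 0 → Function.Bijective (mulForm M q (a • s + b • t))) :
    Subsingleton (Coh.HH (CohB1.ProjSpace n k) ((DCoh.tensorBi.obj M).obj (Twist.twistProjSpace n k 1)) q) := by
  have hs : Function.Bijective (mulForm M q s) := by
    have := h 1 0 (fun h0 => one_ne_zero (hst 1 0 h0).1)
    rwa [one_smul, zero_smul, add_zero] at this
  haveI := subsingleton_of_pencil (mulForm M q s) (mulForm M q t) hs (fun μ => by
    have hne : (-μ) • s + (1 : k) • t ≠ 0 := fun h0 => one_ne_zero (hst _ _ h0).2
    have h1 := (h _ _ hne).1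
    rw [mulForm_add, mulForm_smul hq, mulForm_smul hq] at h1
    rwa [show mulForm M q t - μ • mulForm M q s = (-μ) • mulForm M q s + (1 : k) • mulForm M q t by
      rw [neg_smul, one_smul]; abel])
  exact (Equiv.ofBijective _ hs).symm.subsingleton

end Groth.Agent.H28.LinePt
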